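import Groth.Agent.FGA29.IntNumPushSheaf
import Groth.Agent.FGA29.IntNumPos
import Groth.Agent.Cyc90.FlatFinFibre

/-!
The degree formula for intersection symbols under finite flat morphisms of varieties.
-/

set_option autoImplicit false
set_option linter.style.haveILetI false
set_option backward.isDefEq.respectTransparency.types false

noncomputable section

universe u

open CategoryTheory CategoryTheory.Limits AlgebraicGeometry TopologicalSpace
open scoped Groth.Agent.FGA29

namespace Groth.Agent.AbDeg57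

variable (k : Type u) [Field k] {X : Scheme.{u}} [X.Over (Spec (CommRingCat.of k))]

/-- The symbol only depends on the classes of the entries. -/
theorem intE_congr_cl {r : ℕ} {M M' : Fin r → X.Modules} (h : ∀ i, PicF.cl (M i) = PicF.cl (M' i))
    (F : X.Modules) : Cyc90.Dev.intE k M F = Cyc90.Dev.intE k M' F :=
  Finset.sum_congr rfl fun I _ => by
    refine congrArg _ (FGA29.euler_cl k ?_)
    rw [FGA29.cl_tensor, FGA29.cl_tensor, FGA29.cl_famTensor, FGA29.cl_famTensor,
      Finset.prod_congr rfl fun i _ => h i]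

variable [IsProper (X ↘ Spec (CommRingCat.of k))]

/-- A power in every slot. -/
theorem intE_tensorPow_all {A : X.Modules} (hA : PicF.IsInvertible A) {F : X.Modules} (hF : Coh.IsCoh F)
    (r N : ℕ) (hr : topologicalKrullDim (CohB1.support F) ≤ (r : WithBot ℕ∞)) :
    Cyc90.Dev.intE k (fun _ : Fin r => CohB1.tensorPow A N) F =
      (N : ℤ) ^ r * Cyc90.Dev.intE k (fun _ : Fin r => A) F := by
  classical
  rcases r with _ | r
  · rw [pow_zero, one_mul]
    exact intE_congr_cl k (fun i => i.elim0) F
  let fam : ℕ → Fin (r + 1) → X.Modules := fun j i => if (i : ℕ) < j then CohB1.tensorPow A N else A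
  have hfam : ∀ j i, PicF.IsInvertible (fam j i) := fun j i => by
    simp only [fam]
    split_ifs
    exacts [EGA73.isInvertible_tensorPow hA N, hA]
  have step : ∀ j : Fin (r + 1), Cyc90.Dev.intE k (fam ((j : ℕ) + 1)) F =
      (N : ℤ) * Cyc90.Dev.intE k (fam (j : ℕ)) F := fun j => by
    let σ := Equiv.swap 0 j
    have e1 : (fun i => fam ((j : ℕ) + 1) (σ i)) =
        Fin.cons (CohB1.tensorPow A N) fun i : Fin r => fam j (σ i.succ) := by
      funext i
      refine Fin.cases ?_ (fun i => ?_) i
      · simp [σ, fam]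
      · have hne : σ i.succ ≠ j := fun h =>
          Fin.succ_ne_zero i (σ.injective (h.trans (Equiv.swap_apply_left 0 j).symm))
        rw [Fin.cons_succ]
        simp only [fam]
        have : ((σ i.succ : Fin (r + 1)) : ℕ) ≠ (j : ℕ) := fun h => hne (Fin.ext h)
        by_cases h1 : ((σ i.succ : Fin (r + 1)) : ℕ) < (j : ℕ)
        · rw [if_pos h1, if_pos (by omega)]
        · rw [if_neg h1, if_neg (by omega)]
    have e2 : (fun i => fam (j : ℕ) (σ i)) = Fin.cons A fun i : Fin r => fam j (σ i.succ) := by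
      funext i
      refine Fin.cases ?_ (fun i => ?_) i
      · simp [σ, fam]
      · rw [Fin.cons_succ]
    rw [← FGA29.intE_perm k (fam ((j : ℕ) + 1)) σ F, e1,
      FGA29.intE_tensorPow_left k (fun i => hfam _ _) hA hF hr N, ← e2, FGA29.intE_perm k (fam j) σ F]
  have main : ∀ j, j ≤ r + 1 → Cyc90.Dev.intE k (fam j) F =
      (N : ℤ) ^ j * Cyc90.Dev.intE k (fun _ : Fin (r + 1) => A) F := by
    intro j
    induction j with
    | zero =>
      intro _
      rw [pow_zero, one_mul]
      exact intE_congr_cl k (fun i => by simp [fam]) F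
    | succ j ih =>
      intro hj
      rw [step ⟨j, by omega⟩]
      show (N : ℤ) * Cyc90.Dev.intE k (fam j) F = _
      rw [ih (by omega), pow_succ']
      ring
  refine (intE_congr_cl k (fun i => ?_) F).trans (main (r + 1) le_rfl)
  simp [fam, i.2]

variable {X' : Scheme.{u}} [X'.Over (Spec (CommRingCat.of k))] [IsProper (X' ↘ Spec (CommRingCat.of k))]
  (g : X' ⟶ X) (hg : g ≫ (X ↘ Spec (CommRingCat.of k)) = X' ↘ Spec (CommRingCat.of k))

include hg in
/-- Symbols of pullbacks against a point over which the morphism is finite. -/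
theorem intE_css_pullback {r : ℕ} {M : Fin r → X.Modules} (hM : ∀ i, PicF.IsInvertible (M i)) {ξ : X'}
    (hξ : FGA29.dl k X' ξ = r) (hne : g.residueDegree ξ ≠ 0) :
    Cyc90.Dev.intE k (fun i => (Scheme.Modules.pullback g).obj (M i)) (Cyc.closureStructureSheaf ξ) =
      (g.residueDegree ξ : ℤ) * Cyc90.Dev.intE k M (Cyc.closureStructureSheaf (g ξ)) := by
  classical
  have := FGA29.isProper_of_over k g hg
  have hδX := FGA29.deltaCompat_tdegN (X := X) k
  have hδX' := FGA29.deltaCompat_tdegN (X := X') k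
  have hX : Cyc.IsSetup X (FGA29.dl k X) := Cyc90.isSetup_of_field (X ↘ Spec (CommRingCat.of k)) _ hδX
  have hX' : Cyc.IsSetup X' (FGA29.dl k X') :=
    Cyc90.isSetup_of_field (X' ↘ Spec (CommRingCat.of k)) _ hδX'
  have hδg := FGA29.deltaCompat_map k g hg
  haveI := hX.1
  have heq : FGA29.dl k X' ξ = FGA29.dl k X (g ξ) := Cyc90.delta_eq_of_residueDegree_ne_zero g hδg ξ hne
  have hgξ : FGA29.dl k X (g ξ) = r := heq.symm.trans hξ
  have hF := FGA29.cohLe_css k hδX' hX' hξ.le
  haveI := hF.1.1
  haveI := hF.1.2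
  rw [FGA29.intE_pullback_eq_push k g hg hM hF]
  have inv : ∀ {T : X.Modules}, PicF.IsInvertible T → ∃ L, PicF.IsInvertible L ∧
      Nonempty (CohB1.tensorMod T L ≅ Coh.structureModule X) := fun {T} hT => by
    obtain ⟨L, hL, ⟨e⟩⟩ := An92.InvMod.exists_inverse hT
    exact ⟨L, hL, ⟨EGA73.tensComm T L ≪≫ e⟩⟩
  choose L hL hML using fun i => inv (hM i)
  choose s hs using fun i => Cyc90.Dev.exists_secFibre_family (hL i)
  let α : AlgebraicCycle X' ℤ := FGA29.ptCycle ξ
  have hα : ⇑α = Cyc.sheafFun (FGA29.dl k X') (r : ℤ) (Cyc.closureStructureSheaf ξ) := by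
    rw [← hξ, FGA29.sheafFun_css' hX' ξ]
    rfl
  have hpush : Cyc.CohLe (FGA29.dl k X) (r : ℤ) ((Coh.push g).obj (Cyc.closureStructureSheaf ξ)) := by
    refine ⟨FGA29.isCoh_push_of_isProper g _ hF.1, fun y hy => ?_⟩
    by_contra hlt
    refine not_subsingleton_iff_nontrivial.2 hy (FGA29.subsingleton_stalk_push g _ y fun x hx => ?_)
    by_contra hne'
    have h1 : FGA29.dl k X' x ≤ (r : ℤ) := hF.2 x (not_subsingleton_iff_nontrivial.1 hne')
    obtain ⟨n, -, hd⟩ := hδg x
    rw [hx] at hd
    omega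
  have hmap : Cyc.sheafFun (FGA29.dl k X) (r : ℤ) ((Coh.push g).obj (Cyc.closureStructureSheaf ξ)) =
      fun x => (g.residueDegree ξ : ℤ) * FGA29.ptFun (g ξ) 1 x := by
    rw [← FGA29.map_sheafFun g hX'.2.2 hX.2.2 hδg r _ hF.1 hF.2 α hα]
    funext y
    rw [Cyc90.map_apply_eq]
    by_cases hy : y = g ξ
    · subst hy
      rw [finsum_mem_def, finsum_eq_single _ ξ fun x hx => ?_]
      · rw [Set.indicator_of_mem (show ξ ∈ g ⁻¹' {g ξ} from rfl), FGA29.ptFun_self]
        show FGA29.ptFun ξ 1 ξ * _ = _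
        rw [FGA29.ptFun_self, one_mul, if_pos heq, mul_one]
      · refine Set.indicator_apply_eq_zero.2 fun _ => ?_
        show FGA29.ptFun ξ 1 x * _ = _
        rw [FGA29.ptFun_ne hx, zero_mul]
    · rw [FGA29.ptFun_ne hy, mul_zero]
      refine finsum_mem_eq_zero_of_forall_eq_zero fun x hx => ?_
      show FGA29.ptFun ξ 1 x * _ = _
      rw [FGA29.ptFun_ne (fun h => hy (by rw [← h]; exact hx.symm)), zero_mul]
  have hpt : (Function.support (FGA29.ptFun (g ξ) 1)).Finite := FGA29.ptFun_finite _ _
  have hscale : ∀ c : ℕ, (Function.support fun x => (c : ℤ) * FGA29.ptFun (g ξ) 1 x).Finite ∧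
      Cyc90.Dev.degFun k (Cyc90.Dev.capIter (FGA29.dl k X) L s
        (fun x => (c : ℤ) * FGA29.ptFun (g ξ) 1 x) r) =
      (c : ℤ) * Cyc90.Dev.degFun k (Cyc90.Dev.capIter (FGA29.dl k X) L s (FGA29.ptFun (g ξ) 1) r) := by
    intro c
    refine ⟨hpt.subset fun x hx => right_ne_zero_of_mul (Function.mem_support.1 hx), ?_⟩
    induction c with
    | zero =>
      rw [show (fun x => ((0 : ℕ) : ℤ) * FGA29.ptFun (g ξ) 1 x) = (0 : X → ℤ) from funext fun x => by simp,
        Cyc90.Dev.capIter_zero, Nat.cast_zero, zero_mul]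
      exact Cyc90.Dev.degFun_zero k
    | succ c ih =>
      have hc : (Function.support fun x => (c : ℤ) * FGA29.ptFun (g ξ) 1 x).Finite :=
        hpt.subset fun x hx => right_ne_zero_of_mul (Function.mem_support.1 hx)
      rw [show (fun x => ((c + 1 : ℕ) : ℤ) * FGA29.ptFun (g ξ) 1 x) =
          (fun x => (c : ℤ) * FGA29.ptFun (g ξ) 1 x) + FGA29.ptFun (g ξ) 1 from
          funext fun x => by simp [add_mul],
        Cyc90.Dev.capIter_add k hX hL hc hpt s hs,
        Cyc90.Dev.degFun_add k (Cyc90.Dev.finite_capIter k hX hL hc s hs r)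
          (Cyc90.Dev.finite_capIter k hX hL hpt s hs r), ih]
      push_cast
      ring
  rw [Cyc90.Dev.intE_eq_degFun k hδX hX L M hL hML s hs _ hpush, hmap, (hscale _).2,
    Cyc90.Dev.intE_eq_degFun k hδX hX L M hL hML s hs _ (FGA29.cohLe_css k hδX hX hgξ.le), ← hgξ,
    FGA29.sheafFun_css' hX (g ξ)]

omit [X.Over (Spec (CommRingCat.of k))] [IsProper (X ↘ Spec (CommRingCat.of k))]
  [X'.Over (Spec (CommRingCat.of k))] [IsProper (X' ↘ Spec (CommRingCat.of k))] in
/-- The rank of a finite flat morphism of integral schemes is the degree of the extension of function fields. -/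
theorem residueDegree_genericPoint [IsIntegral X] [IsLocallyNoetherian X] [IsIntegral X'] [IsFinite g]
    [Flat g] (hgen : g (genericPoint X') = genericPoint X)
    (hfib : ∀ x, g x = genericPoint X → x = genericPoint X') :
    g.residueDegree (genericPoint X') = g.finrank (genericPoint X) := by
  have hset : g ⁻¹' {genericPoint X} = {genericPoint X'} :=
    Set.ext fun x => ⟨hfib x, fun h => by rw [Set.mem_preimage, Set.mem_singleton_iff.1 h]; exact hgen⟩
  rw [← (Cyc90.finite_flat_fibre g (genericPoint X)).2.2, hset, finsum_mem_singleton]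
  let R := X'.presheaf.stalk (genericPoint X')
  letI : Field R := inferInstanceAs (Field X'.functionField)
  let I : Ideal R := (IsLocalRing.maximalIdeal (X.presheaf.stalk (g (genericPoint X')))).map
    (g.stalkMap (genericPoint X')).hom
  have hI : I = ⊥ := (Ideal.eq_bot_or_top I).resolve_right fun h =>
    have h2 : I ≤ IsLocalRing.maximalIdeal R :=
      ((IsLocalRing.local_hom_TFAE (g.stalkMap (genericPoint X')).hom).out 0 2 rfl rfl).1
        (inferInstance : IsLocalHom (g.stalkMap (genericPoint X')).hom)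
    (IsLocalRing.maximalIdeal.isMaximal R).ne_top (top_le_iff.1 (h.ge.trans h2))
  have hlen : Module.length R (R ⧸ I) = 1 := by
    rw [(Submodule.quotEquivOfEqBot I hI).length_eq]
    exact Module.length_eq_one R R
  rw [show Module.length (X'.presheaf.stalk (genericPoint X')) (X'.presheaf.stalk (genericPoint X') ⧸
      (IsLocalRing.maximalIdeal (X.presheaf.stalk (g (genericPoint X')))).map
        (g.stalkMap (genericPoint X')).hom) = 1 from hlen]
  simp

end Groth.Agent.AbDeg57
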