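import Groth.Agent.LC15.FrobRegular
import Groth.Agent.LC15.Indep
import Mathlib.RingTheory.Finiteness.Ideal
import Mathlib.Algebra.Module.SpanRank

/-!
Colength of the ideal of `p`-th powers of the maximal ideal of a regular local ring.
-/

set_option autoImplicit false
set_option linter.style.haveILetI false

noncomputable section

universe u

open IsLocalRing

namespace Groth.Agent.AbDeg57

/-- A minimal family of generators of the maximal ideal of a regular local ring is independent. -/
theorem exists_independent_generators (R : Type u) [CommRing R] [IsRegularLocalRing R] (d : ℕ)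
    (hd : ringKrullDim R = d) :
    ∃ x : Fin d → R, Ideal.span (Set.range x) = maximalIdeal R ∧ Dual2.Independent x := by
  classical
  have hn : (maximalIdeal R).spanFinrank = d := by
    exact_mod_cast IsRegularLocalRing.spanFinrank_maximalIdeal.trans hd
  have hfg : (maximalIdeal R).FG := IsNoetherian.noetherian _
  haveI := (Submodule.FG.finite_generators hfg).to_subtype
  have hcard : Nat.card (maximalIdeal R).generators = d := by
    rw [Nat.card_coe_set_eq, Submodule.FG.generators_ncard hfg, hn]
  let e := (Finite.equivFinOfCardEq hcard).symm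
  let x : Fin d → R := fun i => (e i).1
  have hrange : Set.range x = (maximalIdeal R).generators := by
    rw [show x = Subtype.val ∘ e from rfl, Set.range_comp, e.range_eq_univ, Set.image_univ, Subtype.range_coe]
  have hspan : Ideal.span (Set.range x) = maximalIdeal R := by
    rw [hrange]; exact Submodule.span_generators _
  refine ⟨x, hspan, fun a ha i => ?_⟩
  rw [hspan]
  by_contra hu
  rw [mem_maximalIdeal, mem_nonunits_iff, not_not] at hu
  have hxi : x i ∈ Ideal.span ((x '' (Finset.univ.erase i : Finset (Fin d))) : Set R) := by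
    rw [← Finset.add_sum_erase _ _ (Finset.mem_univ i)] at ha
    have h1 : a i * x i ∈ Ideal.span ((x '' (Finset.univ.erase i : Finset (Fin d))) : Set R) := by
      rw [eq_neg_of_add_eq_zero_left ha]
      exact neg_mem (sum_mem fun j hj => Ideal.mul_mem_left _ _ (Ideal.subset_span ⟨j, hj, rfl⟩))
    exact (Ideal.unit_mul_mem_iff_mem _ hu).1 h1
  have hle : maximalIdeal R ≤ Ideal.span ((x '' (Finset.univ.erase i : Finset (Fin d))) : Set R) := by
    rw [← hspan, Ideal.span_le]
    rintro _ ⟨j, rfl⟩
    by_cases hj : j = i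
    · exact hj ▸ hxi
    · exact Ideal.subset_span ⟨j, Finset.mem_erase.2 ⟨hj, Finset.mem_univ _⟩, rfl⟩
  have heq : maximalIdeal R = Ideal.span ((x '' (Finset.univ.erase i : Finset (Fin d))) : Set R) :=
    le_antisymm hle ((Ideal.span_mono (Set.image_subset_range _ _)).trans hspan.le)
  have h2 : (maximalIdeal R).spanFinrank ≤ (x '' (Finset.univ.erase i : Finset (Fin d))).ncard := by
    conv_lhs => rw [heq]
    exact Submodule.spanFinrank_span_le_ncard_of_finite (Set.toFinite _)
  have h3 : (x '' (Finset.univ.erase i : Finset (Fin d))).ncard ≤ d - 1 :=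
    (Set.ncard_image_le).trans (by simp)
  have := i.pos
  omega

/-- The colength of the ideal of `p`-th powers is at least `p ^ dim`. -/
theorem le_length_quot_powers (p : ℕ) [hp : Fact p.Prime] (R : Type u) [CommRing R] [IsRegularLocalRing R]
    [CharP R p] (d : ℕ) (hd : ringKrullDim R = d) (I : Ideal R)
    (hI : ∀ N : ℕ, I ≤ Ideal.span ((fun r => r ^ p) '' (maximalIdeal R : Set R)) ⊔ maximalIdeal R ^ (N + 1)) :
    ((p ^ d : ℕ) : ℕ∞) ≤ Module.length R (R ⧸ I) := by
  classical
  obtain ⟨x, hspan, hind⟩ := exists_independent_generators R d hd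
  haveI : ExpChar R p := ExpChar.prime hp.out
  have hind' : Dual2.Independent fun i => x i ^ p := by
    haveI := LC15.FrobRegular.flat p R
    have := LC15.independent_map_of_flat (B := FrobAlg.Twist p R) x hind
    exact this
  let J := Ideal.span (Set.range fun i => x i ^ p)
  have hlen : Module.length R (R ⧸ J) = ((p ^ d : ℕ) : ℕ∞) := by
    rw [LC15.length_powers x hspan _ (fun _ => p) le_rfl (fun _ => hp.out.pos) hind']
    simp
  have hpow : Ideal.span ((fun r => r ^ p) '' (maximalIdeal R : Set R)) ≤ J := by
    refine Ideal.span_le.2 ?_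
    rintro _ ⟨r, hr, rfl⟩
    rw [← hspan] at hr
    obtain ⟨c, rfl⟩ := (Submodule.mem_span_range_iff_exists_fun R).1 hr
    show (∑ i, c i • x i) ^ p ∈ J
    rw [sum_pow_char]
    exact sum_mem fun i _ => by
      rw [smul_eq_mul, mul_pow]
      exact Ideal.mul_mem_left _ _ (Ideal.subset_span ⟨i, rfl⟩)
  obtain ⟨N, hN⟩ : ∃ N, maximalIdeal R ^ (N + 1) ≤ J := by
    obtain ⟨n, hn⟩ := Ideal.exists_pow_le_of_le_radical_of_fg (I := maximalIdeal R) (J := J) (by
      rw [← hspan, Ideal.span_le]
      rintro _ ⟨i, rfl⟩
      exact ⟨p, Ideal.subset_span ⟨i, rfl⟩⟩) (IsNoetherian.noetherian _)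
    exact ⟨n, (Ideal.pow_le_pow_right n.le_succ).trans hn⟩
  have hIJ : I ≤ J := (hI N).trans (sup_le hpow hN)
  rw [← hlen]
  exact Module.length_le_of_surjective (Submodule.factor hIJ) (Submodule.factor_surjective hIJ)

end Groth.Agent.AbDeg57
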