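import Groth.Agent.AbDeg57.SymTensor
import Groth.Agent.Cartier57.Stalk
import Mathlib.Algebra.CharP.Algebra

/-!
The `p`-th power map of a commutative group scheme in characteristic `p` is infinitesimally a function of
`p`-th powers.
-/

set_option autoImplicit false
set_option linter.style.haveILetI false
set_option backward.isDefEq.respectTransparency.types false

noncomputable section

universe u

open CategoryTheory CategoryTheory.Limits MonoidalCategory CartesianMonoidalCategory MonObj GrpObj AlgebraicGeometry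
open IsLocalRing
open scoped TensorProduct

namespace Groth.Agent.AbDeg57

variable {K : Type u} [Field K] (p : ℕ) [hp : Fact p.Prime] [CharP K p]
  (G : Over (Spec (CommRingCat.of K))) [GrpObj G] [IsCommMonObj G]

/-- The pullback of functions along the `p`-th power map at a rational point lands in the `p`-th powers of the
maximal ideal, up to any power of it. -/
theorem stalkMap_pow_mem (a : 𝟙_ (Over (Spec (CommRingCat.of K))) ⟶ G) {x : G.left}
    (hx : a.left (closedPoint K) = x) (N : ℕ)
    (h : G.left.presheaf.stalk ((𝟙 G ^ p : G ⟶ G).left x))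
    (hh : h ∈ maximalIdeal (G.left.presheaf.stalk ((𝟙 G ^ p : G ⟶ G).left x))) :
    ((𝟙 G ^ p : G ⟶ G).left.stalkMap x).hom h ∈
      Ideal.span ((fun r => r ^ p) '' (maximalIdeal (G.left.presheaf.stalk x) : Set (G.left.presheaf.stalk x))) ⊔
        maximalIdeal (G.left.presheaf.stalk x) ^ (N + 1) := by
  classical
  let f := (𝟙 G ^ p : G ⟶ G).left
  let O := G.left.presheaf.stalk x
  let str : CommRingCat.of K ⟶ O := Spec.preimage (G.left.fromSpecStalk x ≫ G.hom)
  obtain ⟨ev, hev⟩ := Cartier57.exists_stalk_lift (R := CommRingCat.of K) a.left hx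
  have hse : str ≫ ev = 𝟙 _ := by
    apply Spec.map_injective
    rw [Spec.map_comp, Spec.map_preimage, ← Category.assoc, hev, Spec.map_id]
    exact Over.w a
  let J : Ideal O := maximalIdeal O ^ (N + 1)
  let q : O ⟶ CommRingCat.of (O ⧸ J) := CommRingCat.ofHom (Ideal.Quotient.mk J)
  letI : Algebra K (O ⧸ J) := ((str ≫ q).hom).toAlgebra
  have hker : ∀ o : O, ev o = 0 ↔ o ∈ maximalIdeal O := fun o => by
    have : (RingHom.ker ev.hom).IsMaximal :=
      RingHom.ker_isMaximal_of_surjective _ fun c => ⟨str c, congr($hse c)⟩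
    rw [← IsLocalRing.eq_maximalIdeal this]
    rfl
  have hJle : ∀ o ∈ J, ev.hom o = 0 := fun o ho => (hker o).2 (Ideal.pow_le_self (Nat.succ_ne_zero N) ho)
  let ε : (O ⧸ J) →ₐ[K] K :=
    { Ideal.Quotient.lift J ev.hom hJle with commutes' := fun c => congr($hse c) }
  have hnil : ∀ r, ε r = 0 → IsNilpotent r := fun r hr => by
    obtain ⟨o, rfl⟩ := Ideal.Quotient.mk_surjective r
    refine ⟨N + 1, ?_⟩
    rw [← map_pow, Ideal.Quotient.eq_zero_iff_mem]
    exact Ideal.pow_mem_pow ((hker o).1 hr) _
  haveI := isLocalRing_tensor p ε hnil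
  let T := ⨂[K] _ : Fin p, (O ⧸ J)
  let sR : CommRingCat.of K ⟶ CommRingCat.of (O ⧸ J) := str ≫ q
  let sT : CommRingCat.of K ⟶ CommRingCat.of T := CommRingCat.ofHom (algebraMap K T)
  let XR : Over (Spec (CommRingCat.of K)) := Over.mk (Spec.map sR)
  let XT : Over (Spec (CommRingCat.of K)) := Over.mk (Spec.map sT)
  let iR : XR ⟶ G := Over.homMk (Spec.map q ≫ G.left.fromSpecStalk x) (by
    show _ = Spec.map (str ≫ q)
    rw [Spec.map_comp, Spec.map_preimage, Category.assoc])
  let single : (j : Fin p) → XT ⟶ XR := fun j => Over.homMk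
    (Spec.map (CommRingCat.ofHom (PiTensorProduct.singleAlgHom (R := K) (A := fun _ => O ⧸ J) j).toRingHom)) (by
      show Spec.map _ ≫ Spec.map sR = Spec.map sT
      rw [← Spec.map_comp]
      congr 1
      exact CommRingCat.hom_ext (RingHom.ext fun c =>
        (PiTensorProduct.singleAlgHom (R := K) (A := fun _ : Fin p => O ⧸ J) j).commutes c))
  let mu : XR ⟶ XT := Over.homMk (Spec.map (CommRingCat.ofHom (tMul (K := K) (R := O ⧸ J) p).toRingHom)) (by
    show Spec.map _ ≫ Spec.map sT = Spec.map sR
    rw [← Spec.map_comp]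
    congr 1
    exact CommRingCat.hom_ext (RingHom.ext fun c => (tMul (K := K) (R := O ⧸ J) p).commutes c))
  let σ : XT ⟶ XT := Over.homMk (Spec.map (CommRingCat.ofHom (tRot (K := K) (R := O ⧸ J) p).toRingHom)) (by
    show Spec.map _ ≫ Spec.map sT = Spec.map sT
    rw [← Spec.map_comp]
    congr 1
    exact CommRingCat.hom_ext (RingHom.ext fun c => (tRot (K := K) (R := O ⧸ J) p).commutes c))
  have hmu : ∀ j, mu ≫ single j = 𝟙 XR := fun j => by
    apply Over.OverMorphism.ext
    show Spec.map _ ≫ Spec.map _ = 𝟙 _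
    rw [← Spec.map_comp, ← Spec.map_id]
    congr 1
    exact CommRingCat.hom_ext (RingHom.ext fun r => tMul_single (K := K) p j r)
  have hσ : ∀ j, σ ≫ single j = single ((finRotate p).symm j) := fun j => by
    apply Over.OverMorphism.ext
    show Spec.map _ ≫ Spec.map _ = Spec.map _
    rw [← Spec.map_comp]
    congr 1
    exact CommRingCat.hom_ext (RingHom.ext fun r => tRot_single (K := K) p j r)
  let P : XT ⟶ G := ∏ j, single j ≫ iR
  have hcomp : ∀ {Y : Over (Spec (CommRingCat.of K))} (u : Y ⟶ XT), u ≫ P = ∏ j, u ≫ single j ≫ iR :=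
    fun u => map_prod ({ toFun := fun y => u ≫ y
                         map_one' := MonObj.comp_one _
                         map_mul' := fun y z => MonObj.comp_mul _ _ _ } : (XT ⟶ G) →* (_ ⟶ G)) _ _
  have hmuP : mu ≫ P = iR ≫ (𝟙 G ^ p) := by
    rw [hcomp, MonObj.comp_pow, Category.comp_id,
      Finset.prod_congr rfl fun j _ => by rw [← Category.assoc, hmu j, Category.id_comp],
      Finset.prod_const, Finset.card_univ, Fintype.card_fin]
  have hσP : σ ≫ P = P := by
    rw [hcomp]
    refine (Finset.prod_congr rfl fun j _ => by rw [← Category.assoc, hσ j]).trans ?_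
    exact Equiv.prod_comp (finRotate p).symm fun j => single j ≫ iR
  haveI : IsLocalRing (O ⧸ J) :=
    have : Nontrivial (O ⧸ J) := ε.toRingHom.domain_nontrivial
    IsLocalRing.of_surjective' (Ideal.Quotient.mk J) Ideal.Quotient.mk_surjective
  haveI : IsLocalHom (tMul (K := K) (R := O ⧸ J) p).toRingHom := ⟨fun t ht => by
    by_contra hu
    have hn : IsNilpotent (tMul (K := K) (R := O ⧸ J) p t) ∨ IsUnit t := by
      rcases IsLocalRing.isUnit_or_isUnit_one_sub_self t with h1 | h1
      · exact .inr h1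
      · refine .inl (hnil _ ?_)
        by_contra h0
        exact hu ((isLocalRing_tensor_unit p ε hnil t) h0)
    rcases hn with hn | hn
    · exact hn.not_isUnit ht
    · exact hu hn⟩
  haveI : IsLocalHom q.hom := .of_surjective _ Ideal.Quotient.mk_surjective
  have hPpt : P.left (closedPoint T) = f x := by
    have h1 : Spec.map (CommRingCat.ofHom (tMul (K := K) (R := O ⧸ J) p).toRingHom) (closedPoint (O ⧸ J)) =
        closedPoint T := Spec_closedPoint
    rw [← h1]
    refine (congr($(congrArg CommaMorphism.left hmuP) (closedPoint (O ⧸ J)))).trans ?_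
    show f (G.left.fromSpecStalk x (Spec.map q (closedPoint _))) = _
    rw [show Spec.map q (closedPoint (O ⧸ J)) = closedPoint O from Spec_closedPoint,
      Scheme.fromSpecStalk_closedPoint]
  obtain ⟨ψ, hψ⟩ := Cartier57.exists_stalk_lift (R := CommRingCat.of T) P.left hPpt
  have hψmu : ψ ≫ CommRingCat.ofHom (tMul (K := K) (R := O ⧸ J) p).toRingHom = f.stalkMap x ≫ q := by
    refine Cartier57.eq_of_specMap_comp ?_
    rw [Spec.map_comp, Category.assoc, hψ, Spec.map_comp, Category.assoc,
      Scheme.SpecMap_stalkMap_fromSpecStalk]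
    exact (congrArg CommaMorphism.left hmuP).trans (Category.assoc _ _ _)
  have hψσ : ψ ≫ CommRingCat.ofHom (tRot (K := K) (R := O ⧸ J) p).toRingHom = ψ := by
    refine Cartier57.eq_of_specMap_comp ?_
    rw [Spec.map_comp, Category.assoc, hψ]
    exact congrArg CommaMorphism.left hσP
  have h1 : tMul (K := K) (R := O ⧸ J) p (ψ h) = q ((f.stalkMap x).hom h) := congr($hψmu h)
  have h2 : tRot (K := K) (R := O ⧸ J) p (ψ h) = ψ h := congr($hψσ h)
  have h0 : ε (tMul p (ψ h)) = 0 := by
    rw [h1]
    exact (hker _).2 (map_nonunit (f.stalkMap x).hom h hh)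
  have hpR : (p : O ⧸ J) = 0 := by
    rw [← map_natCast (algebraMap K (O ⧸ J)), CharP.cast_eq_zero, map_zero]
  have key := tMul_mem_span_pow p ε hpR _ h2 h0
  rw [h1] at key
  have hle : Ideal.span ((fun r : O ⧸ J => r ^ p) '' {r | ε r = 0}) ≤
      (Ideal.span ((fun r => r ^ p) '' (maximalIdeal O : Set O))).map (Ideal.Quotient.mk J) := by
    refine Ideal.span_le.2 ?_
    rintro _ ⟨r, hr, rfl⟩
    obtain ⟨o, rfl⟩ := Ideal.Quotient.mk_surjective r
    exact Ideal.mem_map_of_mem _ (Ideal.subset_span ⟨o, (hker o).1 hr, rfl⟩)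
  have key2 : (f.stalkMap x).hom h ∈ Ideal.comap (Ideal.Quotient.mk J)
      ((Ideal.span ((fun r => r ^ p) '' (maximalIdeal O : Set O))).map (Ideal.Quotient.mk J)) := hle key
  rw [Ideal.comap_map_of_surjective _ Ideal.Quotient.mk_surjective, ← RingHom.ker_eq_comap_bot,
    Ideal.mk_ker] at key2
  exact key2

end Groth.Agent.AbDeg57
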