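import Groth.Agent.AbDeg57.RankPow
import Groth.Agent.AbDeg57.InfPow
import Groth.Agent.AbDeg57.FrobColength
import Groth.Agent.Grp57.Dim
import Groth.Agent.LC17.HKBound
import Mathlib.AlgebraicGeometry.Group.Abelian
import Mathlib.AlgebraicGeometry.AlgClosed.Basic

/-!
The fibre of multiplication by `p` on an abelian variety in characteristic `p` has at most `p ^ g` points.
-/

set_option autoImplicit false
set_option linter.style.haveILetI false
set_option backward.isDefEq.respectTransparency.types false

noncomputable section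

universe u

open CategoryTheory CategoryTheory.Limits MonoidalCategory CartesianMonoidalCategory MonObj GrpObj AlgebraicGeometry
open IsLocalRing

namespace Groth.Agent.AbDeg57

/-- The fibre ring of a quasi-finite morphism at a point has finite length. -/
theorem length_fibre_ne_top {X Y : Scheme.{u}} [IsLocallyNoetherian X] (f : X ⟶ Y) [LocallyQuasiFinite f] (x : X) :
    Module.length (X.presheaf.stalk x)
      (X.presheaf.stalk x ⧸ (maximalIdeal (Y.presheaf.stalk (f x))).map (f.stalkMap x).hom) ≠ ⊤ := by
  algebraize [(f.stalkMap x).hom]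
  haveI : Algebra.QuasiFinite (Y.presheaf.stalk (f x)) (X.presheaf.stalk x) := Scheme.Hom.quasiFiniteAt f x
  haveI : IsLocalHom (algebraMap (Y.presheaf.stalk (f x)) (X.presheaf.stalk x)) :=
    inferInstanceAs (IsLocalHom (f.stalkMap x).hom)
  have hrad : maximalIdeal (X.presheaf.stalk x) ≤
      ((maximalIdeal (Y.presheaf.stalk (f x))).map (algebraMap (Y.presheaf.stalk (f x))
        (X.presheaf.stalk x))).radical := by
    rw [Ideal.radical_eq_sInf]
    refine le_sInf ?_
    rintro P ⟨hP, hPprime⟩
    refine (Algebra.QuasiFinite.eq_of_le_of_under_eq (R := Y.presheaf.stalk (f x)) P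
      (maximalIdeal (X.presheaf.stalk x)) (le_maximalIdeal hPprime.ne_top) ?_).ge
    rw [Ideal.under_def, Ideal.under_def, IsLocalRing.maximalIdeal_comap]
    exact le_antisymm (le_maximalIdeal (hPprime.comap _).ne_top) (Ideal.map_le_iff_le_comap.1 hP)
  have h := Module.length_ne_top_iff.2 (LC17.isFiniteLength_quot_smul hrad (X.presheaf.stalk x))
  rw [smul_eq_mul, Ideal.mul_top] at h
  exact h

/-- The bound over an algebraically closed field. -/
theorem encard_fibre_pow_le_of_isAlgClosed {K : Type u} [Field K] [IsAlgClosed K] (p : ℕ) [hp : Fact p.Prime]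
    [CharP K p] (A : Over (Spec (CommRingCat.of K))) [GrpObj A] [IsProper A.hom] [GeometricallyIntegral A.hom]
    (g : ℕ) (hg : topologicalKrullDim A.left = g) :
    Set.encard {a : A.left | (𝟙 A ^ p).left a = Grp57.unitPt A} ≤ (p ^ g : ℕ) := by
  classical
  let f := (𝟙 A ^ p).left
  haveI : IsIntegral A.left := GeometricallyIntegral.isIntegral_of_subsingleton A.hom
  haveI : IsLocallyNoetherian A.left := LocallyOfFiniteType.isLocallyNoetherian A.hom
  haveI : IsFinite f := isFinite_pow p hp.out.pos
  haveI : Flat f := flat_pow p hp.out.pos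
  haveI : Smooth A.hom := S7795.result A
  haveI := isCommMonObj_of_isProper_of_geometricallyIntegral A
  set e := Grp57.unitPt A
  have he : IsClosed ({e} : Set A.left) :=
    ((pointEquivClosedPoint A.hom) ⟨η[A].left, Over.w η[A]⟩).2
  obtain ⟨hfin, hres, hsum⟩ := Cyc90.finite_flat_fibre f e
  haveI : Finite (f ⁻¹' {e}) := hfin.to_subtype
  have hclosed : ∀ x, f x = e → IsClosed ({x} : Set A.left) := fun x hx => by
    have hS : IsClosed (f ⁻¹' {e}) := he.preimage f.continuous
    have hd : _root_.IsDiscrete (f ⁻¹' {e}) := f.isDiscrete_preimage_singleton e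
    haveI : DiscreteTopology (f ⁻¹' {e}) := hd.to_subtype
    have h1 : IsClosed (Subtype.val '' ({⟨x, hx⟩} : Set (f ⁻¹' {e}))) :=
      hS.isClosedMap_subtype_val _ (isClosed_discrete _)
    simpa using h1
  have hlow : ∀ x, f x = e → p ^ g ≤ f.residueDegree x * (Module.length (A.left.presheaf.stalk x)
      (A.left.presheaf.stalk x ⧸ (maximalIdeal (A.left.presheaf.stalk (f x))).map (f.stalkMap x).hom)).toNat := by
    intro x hx
    refine le_trans ?_ (Nat.le_mul_of_pos_left _ (Nat.pos_of_ne_zero (hres x hx)))
    let a : 𝟙_ (Over (Spec (CommRingCat.of K))) ⟶ A :=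
      Over.homMk (pointOfClosedPoint A.hom x (hclosed x hx)) (pointOfClosedPoint_comp _ _ _)
    have ha : a.left (closedPoint K) = x := pointOfClosedPoint_apply _ _ _ _
    let O := A.left.presheaf.stalk x
    haveI : IsRegularLocalRing O := VarGal.isRegularLocalRing_stalk_of_smooth A.hom x
    haveI : CharP O p :=
      charP_of_injective_ringHom (Spec.preimage (A.left.fromSpecStalk x ≫ A.hom)).hom.injective p
    let I : Ideal O := (maximalIdeal (A.left.presheaf.stalk (f x))).map (f.stalkMap x).hom
    have hI : ∀ N : ℕ, I ≤ Ideal.span ((fun r => r ^ p) '' (maximalIdeal O : Set O)) ⊔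
        maximalIdeal O ^ (N + 1) := fun N =>
      Ideal.map_le_iff_le_comap.2 fun h hh => stalkMap_pow_mem p A a ha N h hh
    have hdim : ringKrullDim O = g := (Grp57.ringKrullDim_stalk_eq_dim A x (hclosed x hx)).trans hg
    have hbound := le_length_quot_powers p O g hdim I hI
    have hne : Module.length O (O ⧸ I) ≠ ⊤ := by
      exact length_fibre_ne_top f x
    exact ENat.toNat_le_toNat hbound hne
  let F := hfin.toFinset
  have hcount : F.card * p ^ g ≤ p ^ (2 * g) := by
    rw [← finrank_pow g hg p hp.out.pos e]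
    refine le_of_le_of_eq ?_ hsum
    rw [finsum_mem_eq_finite_toFinset_sum _ hfin, ← smul_eq_mul]
    exact Finset.card_nsmul_le_sum _ _ _ fun x hx => hlow x (hfin.mem_toFinset.1 hx)
  have hF : F.card ≤ p ^ g := Nat.le_of_mul_le_mul_right (by
    rwa [two_mul, pow_add] at hcount) (pow_pos hp.out.pos g)
  calc Set.encard {a : A.left | (𝟙 A ^ p).left a = e} = F.card := hfin.encard_eq_coe_toFinset_card
    _ ≤ (p ^ g : ℕ) := by exact_mod_cast hF

/-- The only point of a base change over the unit is the unit. -/
theorem proj_fibre_unit {K : Type u} [Field K] (G : Over (Spec (CommRingCat.of K))) [GrpObj G] {L : Type u}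
    [Field L] (σ : K →+* L) (b : (Grp57.bc G σ).left) (hb : Grp57.proj G σ b = Grp57.unitPt G) :
    b = Grp57.unitPt (Grp57.bc G σ) := by
  have hone : η[G].left ≫ G.hom = 𝟙 _ := Over.w η[G]
  have honeB : η[Grp57.bc G σ].left ≫ pullback.snd G.hom (Spec.map (CommRingCat.ofHom σ)) = 𝟙 _ :=
    Over.w η[Grp57.bc G σ]
  have hleft : IsPullback η[Grp57.bc G σ].left (Spec.map (CommRingCat.ofHom σ)) (Grp57.proj G σ) η[G].left := by
    refine IsPullback.of_right (h₁₂ := pullback.snd G.hom (Spec.map (CommRingCat.ofHom σ)))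
      (v₁₃ := Spec.map (CommRingCat.ofHom σ)) (h₂₂ := G.hom) ?_ (Grp57.proj_unit σ)
      (IsPullback.of_hasPullback G.hom (Spec.map (CommRingCat.ofHom σ))).flip
    rw [honeB, hone]
    exact IsPullback.id_horiz _
  obtain ⟨z, hz, -⟩ := Scheme.exists_preimage_of_isPullback hleft b (closedPoint K) hb
  rw [← hz]
  exact congrArg _ (Subsingleton.elim (α := PrimeSpectrum L) _ _)

/-- The bound over any field. -/
theorem encard_fibre_pow_le {K : Type u} [Field K] (p : ℕ) [hp : Fact p.Prime] [CharP K p]
    (A : Over (Spec (CommRingCat.of K))) [GrpObj A] [IsProper A.hom] [GeometricallyIntegral A.hom]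
    (g : ℕ) (hg : topologicalKrullDim A.left = g) :
    Set.encard {a : A.left | (𝟙 A ^ p).left a = Grp57.unitPt A} ≤ (p ^ g : ℕ) := by
  let σ := algebraMap K (AlgebraicClosure K)
  let B := Grp57.bc A σ
  haveI : IsProper B.hom := MorphismProperty.pullback_snd (P := @IsProper) _ _ inferInstance
  haveI : GeometricallyIntegral B.hom :=
    MorphismProperty.pullback_snd (P := @GeometricallyIntegral) _ _ inferInstance
  haveI : CharP (AlgebraicClosure K) p := charP_of_injective_algebraMap σ.injective p
  haveI : IsIntegral A.left := GeometricallyIntegral.isIntegral_of_subsingleton A.hom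
  haveI : Nonempty A.left := ⟨Grp57.unitPt A⟩
  have hgB : topologicalKrullDim B.left = g := (Grp57.dim_bc_algebraicClosure A).trans hg
  have hcomm : (𝟙 B ^ p : B ⟶ B).left ≫ Grp57.proj A σ = Grp57.proj A σ ≫ (𝟙 A ^ p).left := by
    have := map_pow ((Over.pullback (Spec.map (CommRingCat.ofHom σ))).homMonoidHom (X := A) (M := A)) (𝟙 A) p
    simp only [Functor.homMonoidHom_apply, CategoryTheory.Functor.map_id] at this
    rw [← this]
    exact pullback.lift_fst _ _ _
  have hsub : {a : A.left | (𝟙 A ^ p).left a = Grp57.unitPt A} ⊆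
      Grp57.proj A σ '' {b : B.left | (𝟙 B ^ p).left b = Grp57.unitPt B} := by
    intro a ha
    obtain ⟨b, rfl⟩ := Grp57.proj_surjective σ a
    refine ⟨b, ?_, rfl⟩
    have h1 : Grp57.proj A σ ((𝟙 B ^ p).left b) = Grp57.unitPt A :=
      (congr($hcomm b)).trans ha
    exact proj_fibre_unit A σ _ h1
  exact (Set.encard_le_encard hsub).trans ((Set.encard_image_le _ _).trans
    (encard_fibre_pow_le_of_isAlgClosed p B g hgB))

end Groth.Agent.AbDeg57
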