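import Groth.Agent.S1844
import Groth.Agent.AbProj57.Exists
import Groth.Agent.FGA29.IntNumBasic
import Mathlib.AlgebraicGeometry.ZariskisMainTheorem

/-!
Multiplication by a positive integer on an abelian variety is finite.
-/

set_option autoImplicit false
set_option linter.style.haveILetI false
set_option backward.isDefEq.respectTransparency.types false

noncomputable section

universe u

open CategoryTheory CategoryTheory.Limits MonoidalCategory CartesianMonoidalCategory MonObj GrpObj AlgebraicGeometry
open scoped Groth.Agent.FGA29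

namespace Groth.Agent.AbDeg57

/-- A scheme which is proper and quasi-affine is finite over a field. -/
theorem isFinite_of_isProper_of_isQuasiAffine {X : Scheme.{u}} (k : Type u) [Field k]
    (q : X ⟶ Spec (CommRingCat.of k)) [IsProper q] [X.IsQuasiAffine] : IsFinite q := by
  have h1 : IsClosedImmersion X.toSpecΓ := by
    have : IsProper (X.toSpecΓ ≫ Spec.map (q.appTop) ≫ (Scheme.isoSpec (Spec (CommRingCat.of k))).inv) := by
      rw [← Category.assoc, ← Scheme.toSpecΓ_naturality, Category.assoc]
      infer_instance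
    have : IsProper X.toSpecΓ := IsProper.of_comp _
      (Spec.map (q.appTop) ≫ (Scheme.isoSpec (Spec (CommRingCat.of k))).inv)
    exact (IsClosedImmersion.iff_isProper_and_mono _).2 ⟨inferInstance, inferInstance⟩
  have : IsAffine X := isAffine_of_isAffineHom X.toSpecΓ
  exact IsFinite.iff_isProper_and_isAffineHom.2 ⟨inferInstance, inferInstance⟩

/-- A morphism of proper schemes over a field is finite if an ample module has an ample pullback. -/
theorem isFinite_of_isAmple_pullback {X Y : Scheme.{u}} (f : X ⟶ Y) [IsProper f] [Y.IsSeparated]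
    {L : Y.Modules} (hL : PicF.IsInvertible L)
    (h : CohB1.IsAmple ((Scheme.Modules.pullback f).obj L)) : IsFinite f := by
  have : LocallyQuasiFinite f := locallyQuasiFinite_iff_isFinite_fiber.2 fun y => by
    have : IsAffineHom (Y.fromSpecResidueField y) := MorphismProperty.of_postcomp (W := @IsAffineHom)
      (W' := @IsSeparated) (Y.fromSpecResidueField y) (terminal.from Y) inferInstance inferInstance
    have : IsAffineHom (f.fiberι y) :=
      MorphismProperty.pullback_fst (P := @IsAffineHom) _ _ inferInstance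
    have : IsProper (f.fiberToSpecResidueField y) :=
      MorphismProperty.pullback_snd (P := @IsProper) _ _ inferInstance
    have hy : PicF.IsInvertible ((Scheme.Modules.pullback (Y.fromSpecResidueField y)).obj L) :=
      Amp73.isInvertible_pullback _ hL
    haveI : Subsingleton (Spec (Y.residueField y)) :=
      inferInstanceAs (Subsingleton (PrimeSpectrum (Y.residueField y)))
    obtain ⟨i⟩ := AbSquare57.nonempty_iso_structureModule_of_subsingleton
      (IsLocalRing.closedPoint (Y.residueField y)) hy
    let e : (Scheme.Modules.pullback (f.fiberι y)).obj ((Scheme.Modules.pullback f).obj L) ≅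
        Coh.structureModule _ :=
      (Scheme.Modules.pullbackComp (f.fiberι y) f).app L ≪≫
      (Scheme.Modules.pullbackCongr pullback.condition).app L ≪≫
      ((Scheme.Modules.pullbackComp (f.fiberToSpecResidueField y) (Y.fromSpecResidueField y)).app L).symm ≪≫
      (Scheme.Modules.pullback (f.fiberToSpecResidueField y)).mapIso i ≪≫
      PicLoc.pullbackStructureIso _
    have := Amp73.isQuasiAffine_of_isAmple (Amp73.isAmple_of_iso e
      (Amp73.isAmple_pullback _ (Amp73.isQuasiAffine_of_isAffineHom (f.fiberι y)) h))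
    exact isFinite_of_isProper_of_isQuasiAffine (Y.residueField y : Type u) (f.fiberToSpecResidueField y)
  exact IsFinite.of_isProper_of_locallyQuasiFinite f

variable {K : Type u} [Field K] {A : Over (Spec (CommRingCat.of K))} [GrpObj A] [IsProper A.hom]
  [GeometricallyIntegral A.hom]

theorem exists_isAmple (A : Over (Spec (CommRingCat.of K))) [GrpObj A] [IsProper A.hom]
    [GeometricallyIntegral A.hom] : ∃ L : A.left.Modules, CohB1.IsAmple L :=
  AbProj57.exists_isAmple_of_square A fun L hL a b => by
    let B := (Red.bc (Spec.map (CommRingCat.ofHom (algebraMap K (AlgebraicClosure K)))) A)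
    haveI : IsProper B.hom := MorphismProperty.pullback_snd (P := @IsProper) _ _ inferInstance
    haveI : GeometricallyIntegral B.hom :=
      MorphismProperty.pullback_snd (P := @GeometricallyIntegral) _ _ inferInstance
    have h0 := AbSquare57.square (A := B) (PicGrp.cls L hL) a b
    simp only [AbSquare57.pb_cls] at h0
    exact (PicGrp.cl_eq_cl_iff _ _).1 (congrArg Subtype.val h0)

omit [IsProper A.hom] [GeometricallyIntegral A.hom] in
theorem inv_comp_inv : ((𝟙 A)⁻¹ : A ⟶ A) ≫ (𝟙 A)⁻¹ = 𝟙 A := by
  rw [GrpObj.comp_inv, Category.comp_id, _root_.inv_inv]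

omit [IsProper A.hom] [GeometricallyIntegral A.hom] in
theorem isIso_inv_left : IsIso ((𝟙 A)⁻¹ : A ⟶ A).left :=
  ⟨⟨((𝟙 A)⁻¹ : A ⟶ A).left, by rw [← Over.comp_left, inv_comp_inv, Over.id_left],
    by rw [← Over.comp_left, inv_comp_inv, Over.id_left]⟩⟩

/-- A symmetric ample module. -/
theorem exists_symm_isAmple (A : Over (Spec (CommRingCat.of K))) [GrpObj A] [IsProper A.hom]
    [GeometricallyIntegral A.hom] :
    ∃ L : A.left.Modules, CohB1.IsAmple L ∧
      Nonempty ((Scheme.Modules.pullback ((𝟙 A)⁻¹ : A ⟶ A).left).obj L ≅ L) := by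
  obtain ⟨L₀, h₀⟩ := exists_isAmple A
  let i := ((𝟙 A)⁻¹ : A ⟶ A).left
  haveI : IsIso i := isIso_inv_left
  have h₁ : CohB1.IsAmple ((Scheme.Modules.pullback i).obj L₀) :=
    Amp73.isAmple_pullback i (Amp73.isQuasiAffine_of_isAffineHom i) h₀
  refine ⟨CohB1.tensorMod L₀ ((Scheme.Modules.pullback i).obj L₀), Amp73.isAmple_tensor_ample h₀ h₁, ⟨?_⟩⟩
  exact TwTens96.pullTensIso i _ _ ≪≫ EGA73.tensIso (Iso.refl _)
      ((Scheme.Modules.pullbackComp i i).app L₀ ≪≫
        (Scheme.Modules.pullbackCongr (show i ≫ i = 𝟙 _ by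
          rw [← Over.comp_left, inv_comp_inv, Over.id_left])).app L₀ ≪≫
        (Scheme.Modules.pullbackId _).app L₀) ≪≫ EGA73.tensComm _ _

/-- Pullback of a symmetric module along multiplication. -/
theorem nonempty_pullback_pow_iso {L : A.left.Modules} (hL : PicF.IsInvertible L)
    (hsym : Nonempty ((Scheme.Modules.pullback ((𝟙 A)⁻¹ : A ⟶ A).left).obj L ≅ L)) (n : ℕ) (hn : 1 ≤ n) :
    Nonempty ((Scheme.Modules.pullback (𝟙 A ^ n).left).obj L ≅ CohB1.tensorPow L (n * n)) := by
  obtain ⟨e⟩ := S1844.result K A L hL n hn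
  refine FGA29.nonempty_iso_of_cl ?_
  have hs : n * (n + 1) / 2 + n * (n - 1) / 2 = n * n := by
    obtain ⟨j, rfl⟩ : ∃ j, n = j + 1 := ⟨n - 1, by omega⟩
    obtain ⟨t, ht⟩ := Nat.even_mul_succ_self j
    rw [show (j + 1) * (j + 1 + 1) = 2 * (t + (j + 1)) by linarith,
      show (j + 1) * (j + 1 - 1) = 2 * t by simp; linarith, Nat.mul_div_cancel_left _ two_pos,
      Nat.mul_div_cancel_left _ two_pos]
    linarith
  rw [show PicF.cl ((Scheme.Modules.pullback (𝟙 A ^ n).left).obj L) = PicF.cl (CohB1.tensorMod
      (CohB1.tensorPow L (n * (n + 1) / 2))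
      (CohB1.tensorPow ((Scheme.Modules.pullback ((𝟙 A)⁻¹ : A ⟶ A).left).obj L) (n * (n - 1) / 2))) from
      Quot.sound ⟨e⟩, FGA29.cl_tensor, FGA29.cl_tensorPow, FGA29.cl_tensorPow, FGA29.cl_tensorPow,
    show PicF.cl ((Scheme.Modules.pullback ((𝟙 A)⁻¹ : A ⟶ A).left).obj L) = PicF.cl L from Quot.sound hsym,
    ← pow_add, hs]

omit [GeometricallyIntegral A.hom] in
theorem isSeparated_left : A.left.IsSeparated := ⟨by
  rw [← terminal.comp_from A.hom]
  infer_instance⟩

omit [GeometricallyIntegral A.hom] in
theorem isProper_left (f : A ⟶ A) : IsProper f.left := by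
  have : IsProper (f.left ≫ A.hom) := by rw [Over.w]; infer_instance
  exact IsProper.of_comp f.left A.hom

theorem isFinite_pow (n : ℕ) (hn : 1 ≤ n) : IsFinite (𝟙 A ^ n).left := by
  obtain ⟨L, hL, hsym⟩ := exists_symm_isAmple A
  obtain ⟨e⟩ := nonempty_pullback_pow_iso hL.1 hsym n hn
  haveI := isSeparated_left (A := A)
  haveI := isProper_left (𝟙 A ^ n)
  exact isFinite_of_isAmple_pullback _ hL.1
    (Amp73.isAmple_of_iso e.symm ((Amp73.isAmple_tensorPow_iff hL.1 (by positivity)).1 hL))

end Groth.Agent.AbDeg57
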