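import Groth.Agent.AbDeg57.FinPow
import Groth.Agent.NeronHD28.FlatIffQFScheme
import Groth.Agent.FGA29.IntNumPush
import Groth.Agent.Cyc90.FlatFinFibre
import Groth.Agent.Cyc90.DimFun

/-!
Multiplication by a positive integer on an abelian variety is flat and surjective.
-/

set_option autoImplicit false
set_option linter.style.haveILetI false
set_option backward.isDefEq.respectTransparency.types false

noncomputable section

universe u

open CategoryTheory CategoryTheory.Limits MonoidalCategory CartesianMonoidalCategory MonObj GrpObj AlgebraicGeometry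

namespace Groth.Agent.AbDeg57

/-- A finite endomorphism over a field of an irreducible scheme of finite type fixes the generic point. -/
theorem apply_genericPoint {k : Type u} [Field k] {X : Scheme.{u}} [IrreducibleSpace X]
    (p : X ⟶ Spec (CommRingCat.of k)) [IsProper p] (f : X ⟶ X) [LocallyQuasiFinite f]
    (hf : f ≫ p = p) : f (genericPoint X) = genericPoint X := by
  letI : X.Over (Spec (CommRingCat.of k)) := ⟨p⟩
  haveI : IsProper (X ↘ Spec (CommRingCat.of k)) := ‹_›
  have hX : Cyc.IsSetup X (FGA29.dl k X) :=
    Cyc90.isSetup_of_field (X ↘ Spec (CommRingCat.of k)) _ (FGA29.deltaCompat_tdegN (X := X) k)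
  have hδ := FGA29.deltaCompat_map k f hf
  have hne : f.residueDegree (genericPoint X) ≠ 0 := by
    let := (f.residueFieldMap (genericPoint X)).hom.toAlgebra
    have : Module.Finite (X.residueField (f (genericPoint X))) (X.residueField (genericPoint X)) :=
      Cyc90.finite_residueFieldMap_of_quasiFinite f _
    exact (Module.finrank_pos (R := X.residueField (f (genericPoint X)))).ne'
  exact (Cyc90.eq_of_delta_le hX.2.2 (genericPoint_specializes _)
    (Cyc90.delta_eq_of_residueDegree_ne_zero f hδ _ hne).le).symm

variable {K : Type u} [Field K] {A : Over (Spec (CommRingCat.of K))} [GrpObj A] [IsProper A.hom]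
  [GeometricallyIntegral A.hom]

theorem pow_apply_genericPoint [IrreducibleSpace A.left] (n : ℕ) (hn : 1 ≤ n) :
    (𝟙 A ^ n).left (genericPoint A.left) = genericPoint A.left := by
  haveI := isFinite_pow (A := A) n hn
  exact apply_genericPoint A.hom _ (Over.w _)

theorem surjective_pow (n : ℕ) (hn : 1 ≤ n) : Surjective (𝟙 A ^ n).left := by
  haveI := isFinite_pow (A := A) n hn
  haveI : IsIntegral A.left := GeometricallyIntegral.isIntegral_of_subsingleton A.hom
  refine ⟨Set.range_eq_univ.1 (Set.eq_univ_of_univ_subset ?_)⟩
  rw [← genericPoint_closure, IsClosed.closure_subset_iff ((𝟙 A ^ n).left.isClosedMap.isClosed_range)]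
  exact Set.singleton_subset_iff.2 ⟨genericPoint A.left, pow_apply_genericPoint n hn⟩

theorem flat_pow (n : ℕ) (hn : 1 ≤ n) : Flat (𝟙 A ^ n).left := by
  haveI := isFinite_pow (A := A) n hn
  haveI : IsIntegral A.left := GeometricallyIntegral.isIntegral_of_subsingleton A.hom
  have : Smooth A.hom := S7795.result A
  haveI : IsLocallyNoetherian A.left := LocallyOfFiniteType.isLocallyNoetherian A.hom
  have hreg := fun x => VarGal.isRegularLocalRing_stalk_of_smooth A.hom x
  exact (NeronHD28.flat_iff_locallyQuasiFinite_of_regular _ hreg hreg (pow_apply_genericPoint n hn)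
    ((𝟙 A ^ n).left.finite_preimage_singleton _)).2 inferInstance

end Groth.Agent.AbDeg57
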