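import Groth.Agent.AbDeg57.FlatPow
import Groth.Agent.AbDeg57.DegFormula

/-!
The rank of multiplication by a nonzero integer on an abelian variety.
-/

set_option autoImplicit false
set_option linter.style.haveILetI false
set_option backward.isDefEq.respectTransparency.types false

noncomputable section

universe u

open CategoryTheory CategoryTheory.Limits MonoidalCategory CartesianMonoidalCategory MonObj GrpObj AlgebraicGeometry
open scoped Groth.Agent.FGA29

namespace Groth.Agent.AbDeg57

variable {K : Type u} [Field K] {A : Over (Spec (CommRingCat.of K))} [GrpObj A] [IsProper A.hom]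
  [GeometricallyIntegral A.hom]

theorem finrank_pow (g : ℕ) (hg : topologicalKrullDim A.left = g) (n : ℕ) (hn : 1 ≤ n) (a : A.left) :
    Scheme.Hom.finrank (𝟙 A ^ n).left a = n ^ (2 * g) := by
  classical
  let f := (𝟙 A ^ n).left
  haveI : IsIntegral A.left := GeometricallyIntegral.isIntegral_of_subsingleton A.hom
  haveI : IsLocallyNoetherian A.left := LocallyOfFiniteType.isLocallyNoetherian A.hom
  haveI : IsFinite f := isFinite_pow n hn
  haveI : Flat f := flat_pow n hn
  rw [show Scheme.Hom.finrank f a = Scheme.Hom.finrank f (genericPoint A.left) from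
    (Scheme.Hom.isLocallyConstant_finrank f).apply_eq_of_preconnectedSpace _ _]
  letI : A.left.Over (Spec (CommRingCat.of K)) := ⟨A.hom⟩
  haveI : IsProper (A.left ↘ Spec (CommRingCat.of K)) := ‹IsProper A.hom›
  have hδ := FGA29.deltaCompat_tdegN (X := A.left) K
  have hX : Cyc.IsSetup A.left (FGA29.dl K A.left) :=
    Cyc90.isSetup_of_field (A.left ↘ Spec (CommRingCat.of K)) _ hδ
  set η₀ := genericPoint A.left
  have hη₀ : FGA29.dl K A.left η₀ = (g : ℤ) := by
    have h := (WC97.dim_eq (A.left ↘ Spec (CommRingCat.of K))).1.symm.trans hg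
    have h' : WC97.tdegN (A.left ↘ Spec (CommRingCat.of K)) η₀ = g := by exact_mod_cast h
    exact congrArg Nat.cast h'
  have hgen : f η₀ = η₀ := pow_apply_genericPoint n hn
  have hf : f ≫ (A.left ↘ Spec (CommRingCat.of K)) = A.left ↘ Spec (CommRingCat.of K) := Over.w _
  have hne : ∀ x, f.residueDegree x ≠ 0 := fun x => (Cyc90.finite_flat_fibre f (f x)).2.1 x rfl
  have hδf := FGA29.deltaCompat_map K f hf
  have hfib : ∀ x, f x = η₀ → x = η₀ := fun x hx => by
    have h := Cyc90.delta_eq_of_residueDegree_ne_zero f hδf x (hne x)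
    rw [hx] at h
    exact (Cyc90.eq_of_delta_le hX.2.2 (genericPoint_specializes x) h.ge).symm
  obtain ⟨L, hL, hsym⟩ := exists_symm_isAmple A
  obtain ⟨T, hT, ⟨eT⟩⟩ := An92.InvMod.exists_inverse hL.1
  have hTL : Nonempty (CohB1.tensorMod T L ≅ Coh.structureModule A.left) := ⟨eT⟩
  have hTL' : PicF.cl T * PicF.cl L = 1 := Quot.sound hTL
  obtain ⟨eL⟩ := nonempty_pullback_pow_iso hL.1 hsym n hn
  obtain ⟨eI⟩ := FGA29.pullback_inverse f eT
  have hclT : PicF.cl ((Scheme.Modules.pullback f).obj T) = PicF.cl (CohB1.tensorPow T (n * n)) := by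
    have h1 : PicF.cl ((Scheme.Modules.pullback f).obj T) * PicF.cl ((Scheme.Modules.pullback f).obj L) = 1 :=
      Quot.sound ⟨eI⟩
    rw [show PicF.cl ((Scheme.Modules.pullback f).obj L) = PicF.cl (CohB1.tensorPow L (n * n)) from
      Quot.sound ⟨eL⟩, FGA29.cl_tensorPow] at h1
    rw [FGA29.cl_tensorPow]
    refine left_inv_eq_right_inv h1 ?_
    rw [← mul_pow, mul_comm (PicF.cl L), hTL', one_pow]
  have hF := FGA29.cohLe_css K hδ hX hη₀.le
  have hdim : topologicalKrullDim (CohB1.support (Cyc.closureStructureSheaf η₀)) ≤ (g : WithBot ℕ∞) :=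
    (LC17.dim_mono (Set.subset_univ _)).trans
      ((Homeomorph.Set.univ A.left).isHomeomorph.topologicalKrullDim_eq _ |>.trans hg).le
  have key := intE_css_pullback K f hf (r := g) (M := fun _ => T) (fun _ => hT) hη₀ (hne η₀)
  rw [intE_congr_cl K (M' := fun _ : Fin g => CohB1.tensorPow T (n * n)) (fun _ => hclT),
    intE_tensorPow_all K hT hF.1 g (n * n) hdim, hgen] at key
  have hpos := FGA29.intE_css_pos hX K hδ (fun _ : Fin g => L) (fun _ => T) (fun _ => hL) (fun _ => hTL)
    η₀ hη₀
  have h2 := mul_right_cancel₀ hpos.ne' key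
  have h3 : (f.residueDegree η₀ : ℕ) = (n * n) ^ g := by exact_mod_cast h2.symm
  rw [← residueDegree_genericPoint f hgen hfib, h3, ← pow_two, ← pow_mul]

end Groth.Agent.AbDeg57
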