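import Mathlib.RingTheory.PiTensorProduct
import Mathlib.LinearAlgebra.PiTensorProduct.Basis
import Mathlib.LinearAlgebra.Basis.VectorSpace
import Mathlib.Algebra.CharP.Basic
import Mathlib.GroupTheory.Perm.Cycle.Type
import Mathlib.GroupTheory.Perm.Fin
import Mathlib.Logic.Equiv.Fin.Rotate
import Mathlib.RingTheory.LocalRing.Basic
import Mathlib.RingTheory.LocalRing.MaximalIdeal.Basic
import Mathlib.RingTheory.Nilpotent.Basic
import Mathlib.RingTheory.Nilpotent.Lemmas

/-!
Cyclically symmetric tensors in characteristic `p` multiply to combinations of `p`-th powers.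
-/

set_option autoImplicit false
set_option linter.style.haveILetI false

noncomputable section

universe u

open PiTensorProduct Module
open scoped TensorProduct

namespace Groth.Agent.AbDeg57

variable {K : Type u} [Field K] {R : Type u} [CommRing R] [Algebra K R] (p : ℕ)

/-- multiplication of the factors -/
def tMul : (⨂[K] _ : Fin p, R) →ₐ[K] R :=
  liftAlgHom (MultilinearMap.mkPiAlgebra K (Fin p) R) (by simp) (by simp [Finset.prod_mul_distrib])

/-- cyclic rotation of the factors -/
def tRot : (⨂[K] _ : Fin p, R) →ₐ[K] (⨂[K] _ : Fin p, R) :=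
  liftAlgHom ((tprod K (s := fun _ : Fin p => R)).domDomCongr (finRotate p)) (by rfl)
    (fun x y => by
      simp only [MultilinearMap.domDomCongr_apply, tprod_mul_tprod]
      rfl)

theorem tMul_tprod (x : Fin p → R) : tMul (K := K) p (tprod K x) = ∏ i, x i := by
  simp [tMul]

theorem tRot_tprod (x : Fin p → R) :
    tRot (K := K) p (tprod K x) = tprod K (fun i => x (finRotate p i)) := by
  simp [tRot]

theorem tMul_single (i : Fin p) (r : R) : tMul p (singleAlgHom (R := K) (A := fun _ => R) i r) = r := by
  rw [singleAlgHom_apply, tMul_tprod, MonoidHom.mulSingle_apply, Finset.prod_pi_mulSingle']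
  simp

theorem tRot_single (i : Fin p) (r : R) :
    tRot p (singleAlgHom (R := K) (A := fun _ => R) i r) =
      singleAlgHom (R := K) (A := fun _ => R) ((finRotate p).symm i) r := by
  rw [singleAlgHom_apply, singleAlgHom_apply, tRot_tprod]
  congr 1
  funext j
  simp only [MonoidHom.mulSingle_apply, Pi.mulSingle_apply, Equiv.eq_symm_apply]

variable (ε : R →ₐ[K] K)

/-- a basis adapted to an augmentation -/
def augBasis : Basis (Unit ⊕ Basis.ofVectorSpaceIndex K (LinearMap.ker ε.toLinearMap)) K R :=
  ((Basis.singleton Unit K).prod (Basis.ofVectorSpace K (LinearMap.ker ε.toLinearMap))).map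
    (LinearEquiv.ofLinear
      (LinearMap.coprod (Algebra.linearMap K R) (LinearMap.ker ε.toLinearMap).subtype)
      (LinearMap.prod ε.toLinearMap (LinearMap.codRestrict _
        (LinearMap.id - (Algebra.linearMap K R).comp ε.toLinearMap)
        fun r => by simp [LinearMap.mem_ker]))
      (LinearMap.ext fun r => by simp)
      (LinearMap.ext fun ⟨c, m, hm⟩ => by
        have hm' : ε m = 0 := hm
        refine Prod.ext (by simp [hm']) (Subtype.ext ?_)
        simp [hm']))

theorem augBasis_inl : augBasis ε (.inl ()) = 1 := by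
  simp [augBasis]

theorem augBasis_inr (i : Basis.ofVectorSpaceIndex K (LinearMap.ker ε.toLinearMap)) :
    ε (augBasis ε (.inr i)) = 0 := by
  have h : ε ((Basis.ofVectorSpace K (LinearMap.ker ε.toLinearMap) i : LinearMap.ker ε.toLinearMap) : R) = 0 :=
    LinearMap.mem_ker.1 (Basis.ofVectorSpace K (LinearMap.ker ε.toLinearMap) i).2
  simp only [augBasis, Basis.map_apply, Basis.prod_apply_inr_fst, Basis.prod_apply_inr_snd]
  simpa using h

/-- the basis of the tensor power -/
def tBasis : Basis (Fin p → Unit ⊕ Basis.ofVectorSpaceIndex K (LinearMap.ker ε.toLinearMap)) K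
    (⨂[K] _ : Fin p, R) :=
  Basis.piTensorProduct fun _ => augBasis ε

theorem isNilpotent_tBasis (hnil : ∀ r, ε r = 0 → IsNilpotent r)
    (I : Fin p → Unit ⊕ Basis.ofVectorSpaceIndex K (LinearMap.ker ε.toLinearMap))
    (hI : I ≠ fun _ => .inl ()) : IsNilpotent (tBasis p ε I) := by
  obtain ⟨j, hj⟩ := Function.ne_iff.1 hI
  obtain ⟨i, hi⟩ : ∃ i, I j = .inr i := by
    rcases h : I j with ⟨⟩ | i
    · exact absurd h hj
    · exact ⟨i, rfl⟩
  have e : tBasis p ε I = singleAlgHom (R := K) (A := fun _ : Fin p => R) j (augBasis ε (I j)) *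
      tprod K (Function.update (fun l => augBasis ε (I l)) j 1) := by
    rw [singleAlgHom_apply, tprod_mul_tprod, tBasis, Basis.piTensorProduct_apply]
    congr 1
    funext l
    by_cases hl : l = j
    · subst hl; simp
    · simp [hl]
  rw [e]
  exact (Commute.all _ _).isNilpotent_mul_right ((hnil (augBasis ε (I j)) (by rw [hi]; exact augBasis_inr ε i)).map _)

theorem eps_tMul_eq_repr (t : ⨂[K] _ : Fin p, R) :
    ε (tMul p t) = (tBasis p ε).repr t fun _ => .inl () := by
  classical
  have : ε.toLinearMap.comp (tMul p).toLinearMap =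
      (Finsupp.lapply (fun _ => .inl ())).comp (tBasis p ε).repr.toLinearMap := by
    refine (tBasis p ε).ext fun I => ?_
    simp only [LinearMap.comp_apply, LinearEquiv.coe_coe, Basis.repr_self, AlgHom.toLinearMap_apply,
      Finsupp.lapply_apply, Finsupp.single_apply]
    rw [tBasis, Basis.piTensorProduct_apply, tMul_tprod, map_prod]
    split_ifs with h
    · subst h
      exact Finset.prod_eq_one fun i _ => by rw [augBasis_inl, map_one]
    · obtain ⟨j, hj⟩ := Function.ne_iff.1 h
      refine Finset.prod_eq_zero (Finset.mem_univ j) ?_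
      rcases hIj : I j with ⟨⟩ | i
      · exact absurd hIj hj
      · exact augBasis_inr ε i
  exact LinearMap.congr_fun this t

theorem isLocalRing_tensor (hnil : ∀ r, ε r = 0 → IsNilpotent r) :
    IsLocalRing (⨂[K] _ : Fin p, R) := by
  classical
  have hker : ∀ t : ⨂[K] _ : Fin p, R, ε (tMul p t) = 0 → IsNilpotent t := fun t ht => by
    rw [eps_tMul_eq_repr] at ht
    rw [← (tBasis p ε).linearCombination_repr t, Finsupp.linearCombination_apply]
    refine isNilpotent_sum fun I hI => ?_
    refine (isNilpotent_tBasis p ε hnil I fun h => ?_).smul _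
    exact (Finsupp.mem_support_iff.1 hI) (h ▸ ht)
  have : Nontrivial (⨂[K] _ : Fin p, R) :=
    (ε.comp (tMul p)).toRingHom.domain_nontrivial
  refine .of_isUnit_or_isUnit_one_sub_self fun a => ?_
  by_cases h : ε (tMul p a) = 0
  · exact .inr (IsNilpotent.isUnit_one_sub (hker a h))
  · left
    let c := ε (tMul p a)
    have hn : IsNilpotent (a - algebraMap K _ c) := hker _ (by
      rw [map_sub, map_sub, AlgHom.commutes, AlgHom.commutes, Algebra.algebraMap_self, RingHom.id_apply,
        sub_self])
    have := IsNilpotent.isUnit_add_left_of_commute hn ((isUnit_iff_ne_zero.2 h).map (algebraMap K (⨂[K] _ : Fin p, R)))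
      (Commute.all _ _)
    rwa [add_sub_cancel] at this

theorem isLocalRing_tensor_unit (hnil : ∀ r, ε r = 0 → IsNilpotent r) (t : ⨂[K] _ : Fin p, R)
    (h : ε (tMul p t) ≠ 0) : IsUnit t := by
  haveI := isLocalRing_tensor p ε hnil
  by_contra hu
  have hm : t ∈ IsLocalRing.maximalIdeal (⨂[K] _ : Fin p, R) := hu
  have hk : RingHom.ker (ε.comp (tMul p)).toRingHom = IsLocalRing.maximalIdeal (⨂[K] _ : Fin p, R) :=
    IsLocalRing.eq_maximalIdeal (RingHom.ker_isMaximal_of_surjective _ fun c =>
      ⟨algebraMap K _ c, (ε.comp (tMul p)).commutes c⟩)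
  exact h (hk ▸ hm : t ∈ RingHom.ker (ε.comp (tMul p)).toRingHom)

/-- A cyclically symmetric tensor of augmentation zero multiplies into the ideal of `p`-th powers. -/
theorem tMul_mem_span_pow [hp : Fact p.Prime] (hpR : (p : R) = 0) (t : ⨂[K] _ : Fin p, R)
    (ht : tRot p t = t) (h0 : ε (tMul p t) = 0) :
    tMul p t ∈ Ideal.span ((fun r => r ^ p) '' {r : R | ε r = 0}) := by
  classical
  let ι := Unit ⊕ Basis.ofVectorSpaceIndex K (LinearMap.ker ε.toLinearMap)
  let c := (tBasis p ε).repr t
  let e : (Fin p → ι) ≃ (Fin p → ι) :=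
    { toFun := fun I i => I (finRotate p i)
      invFun := fun I i => I ((finRotate p).symm i)
      left_inv := fun I => by funext i; simp
      right_inv := fun I => by funext i; simp }
  have hc : ∀ I, c (e I) = c I := fun I => by
    have h1 : (tBasis p ε).repr.toLinearMap.comp (tRot p).toLinearMap =
        (Finsupp.lmapDomain K K e).comp (tBasis p ε).repr.toLinearMap := by
      refine (tBasis p ε).ext fun J => ?_
      simp only [LinearMap.comp_apply, LinearEquiv.coe_coe, Basis.repr_self, AlgHom.toLinearMap_apply,
        Finsupp.lmapDomain_apply, Finsupp.mapDomain_single]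
      rw [tBasis, Basis.piTensorProduct_apply, tRot_tprod, ← Basis.piTensorProduct_apply]
      exact Basis.repr_self _ _
    have h2 := LinearMap.congr_fun h1 t
    simp only [LinearMap.comp_apply, LinearEquiv.coe_coe, AlgHom.toLinearMap_apply, ht] at h2
    conv_lhs => rw [show c = Finsupp.mapDomain e c from h2]
    exact Finsupp.mapDomain_apply e.injective _ _
  let F : (Fin p → ι) → R := fun I => c I • ∏ i, augBasis ε (I i)
  have hF : ∀ I, F (e I) = F I := fun I => by
    simp only [F, hc]
    exact congrArg _ (Equiv.prod_comp (finRotate p) fun i => augBasis ε (I i))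
  have hsum : tMul p t = ∑ I ∈ c.support, F I := by
    conv_lhs => rw [← (tBasis p ε).linearCombination_repr t, Finsupp.linearCombination_apply]
    rw [map_finsuppSum]
    refine Finset.sum_congr rfl fun I _ => ?_
    show tMul p (c I • tBasis p ε I) = _
    rw [map_smul, tBasis, Basis.piTensorProduct_apply, tMul_tprod]
  rw [hsum, ← Finset.sum_filter_add_sum_filter_not c.support (fun I => e I = I)]
  refine add_mem (sum_mem fun I hI => ?_) ?_
  · obtain ⟨hIs, hIfix⟩ := Finset.mem_filter.1 hI
    have hp0 : 0 < p := hp.out.pos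
    have hconst : ∀ i, I i = I ⟨0, hp0⟩ := by
      have hstep : ∀ i, I (finRotate p i) = I i := fun i => congrFun hIfix i
      intro i
      obtain ⟨i, hi⟩ := i
      induction i with
      | zero => rfl
      | succ i ih =>
        rw [← ih (by omega), ← hstep ⟨i, by omega⟩]
        congr 1
        obtain ⟨q, rfl⟩ : ∃ q, p = q + 1 := ⟨p - 1, by omega⟩
        exact (finRotate_of_lt (show i < q by omega)).symm
    rcases hI0 : I ⟨0, hp0⟩ with ⟨⟩ | i
    · refine absurd h0 ?_
      rw [eps_tMul_eq_repr]
      have : I = fun _ => .inl () := funext fun i => (hconst i).trans hI0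
      exact this ▸ Finsupp.mem_support_iff.1 hIs
    · simp only [F]
      rw [Finset.prod_congr rfl fun j _ => by rw [hconst j, hI0], Finset.prod_const, Finset.card_univ,
        Fintype.card_fin, Algebra.smul_def]
      exact Ideal.mul_mem_left _ _ (Ideal.subset_span ⟨_, augBasis_inr ε i, rfl⟩)
  · rw [show ∑ I ∈ c.support with ¬e I = I, F I = 0 from ?_]
    · exact zero_mem _
    let s := c.support.filter fun I => ¬e I = I
    have hstable : ∀ I, I ∈ s ↔ e I ∈ s := fun I => by
      simp only [s, Finset.mem_filter, Finsupp.mem_support_iff, hc, e.injective.eq_iff]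
    show ∑ I ∈ s, F I = 0
    refine (Finset.sum_comp (fun r : R => r) F).trans ?_
    refine Finset.sum_eq_zero fun r _ => ?_
    let s' := s.filter fun I => F I = r
    have hstable' : ∀ I, I ∈ s' ↔ e I ∈ s' := fun I => by
      simp only [s', Finset.mem_filter, hF, ← hstable]
    let f : Equiv.Perm ↥s' := e.subtypeEquiv fun I => hstable' I
    have hfp : f ^ p ^ 1 = 1 := by
      have hrot : ∀ n I i, (e^[n] I) i = I ((finRotate p)^[n] i) := by
        intro n
        induction n with
        | zero => exact fun I i => rfl
        | succ n ih =>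
          intro I i
          rw [Function.iterate_succ_apply, ih, Function.iterate_succ_apply']
          rfl
      have hordp : (finRotate p) ^ p = 1 := by
        obtain ⟨q, rfl⟩ : ∃ q, p = q + 2 := ⟨p - 2, by have := hp.out.two_le; omega⟩
        have := pow_orderOf_eq_one (finRotate (q + 2))
        rwa [(isCycle_finRotate).orderOf, support_finRotate, Finset.card_univ, Fintype.card_fin] at this
      have hf : ∀ n (x : ↥s'), ((f ^ n) x : Fin p → ι) = e^[n] x := by
        intro n
        induction n with
        | zero => exact fun x => rfl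
        | succ n ih =>
          intro x
          rw [pow_succ', Equiv.Perm.mul_apply, Function.iterate_succ_apply', ← ih]
          rfl
      refine Equiv.ext fun x => Subtype.ext (funext fun i => ?_)
      rw [pow_one, hf, hrot, show (finRotate p)^[p] = ⇑((finRotate p) ^ p) from
        (Equiv.Perm.coe_pow _ _).symm, hordp]
      rfl
    have hcard : p ∣ s'.card := by
      let g : Function.End ↥s' := fun x => f x
      have hend : g ^ p ^ 1 = 1 := by
        have hcoe : ∀ n : ℕ, g ^ n = ⇑(f ^ n) := by
          intro n
          induction n with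
          | zero => rfl
          | succ n ih => rw [pow_succ, ih, pow_succ]; rfl
        rw [hcoe, hfp]; rfl
      have h := Equiv.Perm.card_fixedPoints_modEq (p := p) (n := 1) hend
      have he : (Function.fixedPoints g) = ∅ := Set.eq_empty_iff_forall_notMem.2 fun x hx =>
        (Finset.mem_filter.1 (Finset.mem_filter.1 x.2).1).2 (congrArg Subtype.val hx)
      rw [Fintype.card_coe] at h
      have h2 : s'.card ≡ 0 [MOD p] := h.trans (by
        haveI : IsEmpty ↥(Function.fixedPoints g) := ⟨fun x => he.subset x.2⟩
        exact congrArg (· % p) (by convert Fintype.card_eq_zero (α := ↥(Function.fixedPoints g))))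
      exact (Nat.modEq_zero_iff_dvd).1 h2
    obtain ⟨n, hn⟩ := hcard
    show s'.card • r = 0
    rw [hn, nsmul_eq_mul, Nat.cast_mul, hpR, zero_mul, zero_mul]

end Groth.Agent.AbDeg57
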